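import Cfsg.Agent.H39.F4E.Row
import Cfsg.Agent.H81.Spr.FixTd4
import Cfsg.Agent.H824.Wei.OverF4

/-!
The row `F₄(q)`, `q > 2` even, of S3938, without hypotheses.
-/

namespace Cfsg.Agent.H39.F4E

open Cfsg Cfsg.Agent

/-- The groups `³D₄(q)` over `x` fix the fixed vectors of `x` on one of the two modules. -/
theorem fixTd4 : FixTd4 := fun hF h4 x hx S hS hxS => H81.Spr.fix_td4 hF h4 x hx S hS hxS

/-- The row `F₄(q)`, `q` even, `q > 2`, of S3938. -/
theorem row_f4_even {q : ℕ} (hev : Even q) (hq : 2 < q) : H862.Spr.Row (.f4 q) :=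
  row_even (fun hq hT x hx => H824.Wei.over_F4 hq hT x hx) fixTd4 hev hq

end Cfsg.Agent.H39.F4E
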